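import Cfsg.Agent.H776.P4.Stmts
import Cfsg.Agent.H781.Realized

/-!
# S5210, `q = 3` (3P): the fusion system of a finite group containing `PG K` as a Sylow subgroup (helper815)
-/

set_option autoImplicit false

namespace Cfsg.Agent.H815.P4

open Cfsg Cfsg.FusionSystem Cfsg.Agent.H781 Cfsg.Agent.H776.P4
open Cfsg.Agent.H756.PU (HypK Ess Inv Com NormAut TIAut AF)

universe u v

/-- the fusion system induced by a finite group `G` (of any universe) on a Sylow subgroup `ι : P → G` -/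
theorem exists_pull_gen {P : Type u} [Group P] {p : ℕ} [Fact p.Prime] {G : Type u} [Group G] [Finite G]
    (φ : P →* G) (hinj : Function.Injective φ) (hp : IsPGroup p P) (hidx : ¬ p ∣ φ.range.index) :
    ∃ F : FusionSystem (⊤ : Subgroup P), F.IsSaturated p ∧ F.IsRealizable p ∧
      (∀ α : MulAut P, α ∈ AF F ↔ ∃ g : G, ∀ x : P, φ (α x) = g * φ x * g⁻¹) ∧
      (∀ (Q : Subgroup P) (γ : MulAut Q), γ ∈ F.autGroup Q ↔
        ∃ g : G, ∀ e : Q, φ ((γ e : Q) : P) = g * φ (e : P) * g⁻¹) := by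
  let ι : (⊤ : Subgroup P) →* G := φ.comp (Subgroup.topEquiv (G := P)).toMonoidHom
  have hι : ∀ x : (⊤ : Subgroup P), ι x = φ (x : P) := fun x => rfl
  have hinj' : Function.Injective ι := by
    intro a b hab
    rw [hι, hι] at hab
    exact Subtype.ext (hinj hab)
  have hr : ι.range = φ.range := by
    ext y
    constructor
    · rintro ⟨x, rfl⟩
      exact ⟨_, rfl⟩
    · rintro ⟨x, rfl⟩
      exact ⟨⟨x, trivial⟩, rfl⟩
  have hrangep : IsPGroup p ι.range := by
    have h1 : IsPGroup p φ.range := hp.of_surjective φ.rangeRestrict φ.rangeRestrict_surjective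
    rw [hr]
    exact h1
  have hidx' : ¬ p ∣ ι.range.index := by
    rw [hr]
    exact hidx
  let T : Sylow p G := hrangep.toSylow hidx'
  have hT : (T : Subgroup G) = ι.range := rfl
  have hreal := pullback_isRealizedBy ι hinj'
  have haut : ∀ (Q : Subgroup P) (γ : MulAut Q), γ ∈ (pullback ι hinj').autGroup Q ↔
      ∃ g : G, ∀ e : Q, φ ((γ e : Q) : P) = g * φ (e : P) * g⁻¹ := by
    intro Q γ
    rw [H802.mem_autGroup_iff _ le_top]
    constructor
    · rintro ⟨h1, h2, g, hg⟩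
      exact ⟨g, fun e => hg e⟩
    · rintro ⟨g, hg⟩
      exact ⟨le_top, fun _ => trivial, g, fun e => hg e⟩
  refine ⟨pullback ι hinj', isSaturated_of_isRealizedBy hreal T hT, ⟨_, inferInstance, inferInstance, ι, hreal, T, hT⟩,
    ?_, haut⟩
  intro α
  have h1 : α ∈ AF (pullback ι hinj') ↔
      (MulAut.congr (Subgroup.topEquiv (G := P))).symm α ∈ (pullback ι hinj').autGroup ⊤ := by
    constructor
    · rintro ⟨β, hβ, rfl⟩
      rw [MulEquiv.coe_toMonoidHom, MulEquiv.symm_apply_apply]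
      exact hβ
    · intro h
      exact ⟨_, h, MulEquiv.apply_symm_apply _ _⟩
  rw [h1, haut]
  constructor
  · rintro ⟨g, hg⟩
    exact ⟨g, fun x => hg ⟨x, trivial⟩⟩
  · rintro ⟨g, hg⟩
    exact ⟨g, fun x => hg x⟩

/-- the same for a group `G` in any universe -/
theorem exists_pull {P : Type u} [Group P] {p : ℕ} [Fact p.Prime] {G : Type} [Group G] [Finite G]
    (φ : P →* G) (hinj : Function.Injective φ) (hp : IsPGroup p P) (hidx : ¬ p ∣ φ.range.index) :
    ∃ F : FusionSystem (⊤ : Subgroup P), F.IsSaturated p ∧ F.IsRealizable p ∧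
      (∀ α : MulAut P, α ∈ AF F ↔ ∃ g : G, ∀ x : P, φ (α x) = g * φ x * g⁻¹) ∧
      (∀ (Q : Subgroup P) (γ : MulAut Q), γ ∈ F.autGroup Q ↔
        ∃ g : G, ∀ e : Q, φ ((γ e : Q) : P) = g * φ (e : P) * g⁻¹) := by
  let e : G ≃* ULift.{u} G := MulEquiv.ulift.symm
  let φ' : P →* ULift.{u} G := e.toMonoidHom.comp φ
  have hinj' : Function.Injective φ' := e.injective.comp hinj
  have hr : φ'.range = φ.range.map e.toMonoidHom := by
    rw [MonoidHom.map_range]
  have hidx' : ¬ p ∣ φ'.range.index := by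
    have h1 : (φ.range.map e.toMonoidHom).index = φ.range.index := Subgroup.index_map_equiv φ.range e
    rw [hr, h1]
    exact hidx
  obtain ⟨F, h1, h2, h3, h4⟩ := exists_pull_gen φ' hinj' hp hidx'
  have key : ∀ x y : P, ∀ g : G, φ' x = e g * φ' y * (e g)⁻¹ ↔ φ x = g * φ y * g⁻¹ := by
    intro x y g
    change e (φ x) = e g * e (φ y) * (e g)⁻¹ ↔ _
    rw [← map_inv, ← map_mul, ← map_mul]
    exact e.injective.eq_iff
  refine ⟨F, h1, h2, fun α => ?_, fun Q γ => ?_⟩
  · rw [h3]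
    constructor
    · rintro ⟨g, hg⟩
      refine ⟨e.symm g, fun x => (key _ _ _).1 ?_⟩
      rw [MulEquiv.apply_symm_apply]
      exact hg x
    · rintro ⟨g, hg⟩
      exact ⟨e g, fun x => (key _ _ _).2 (hg x)⟩
  · rw [h4]
    constructor
    · rintro ⟨g, hg⟩
      refine ⟨e.symm g, fun x => (key _ _ _).1 ?_⟩
      rw [MulEquiv.apply_symm_apply]
      exact hg x
    · rintro ⟨g, hg⟩
      exact ⟨e g, fun x => (key _ _ _).2 (hg x)⟩

end Cfsg.Agent.H815.P4
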