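import Cfsg.Agent.H776.P4.Stmts

/-!
# S5210, `q = 3`: coordinates of the field with 9 elements (helper815)
-/

set_option autoImplicit false

namespace Cfsg.Agent.H815.P4

open Cfsg Cfsg.FusionSystem Cfsg.Agent.H776.P4
open Cfsg.Agent.H756.PU (HypK)

universe u

/-- coordinates over `ZMod 3` of the field with 9 elements -/
structure Cx (K : Type u) [Field K] [StarRing K] where
  i : K
  c : ZMod 3 →+* K
  re : K → ZMod 3
  im : K → ZMod 3
  ii : i * i = -1
  si : star i = -i
  sc : ∀ a, star (c a) = c a
  eq : ∀ x, c (re x) + c (im x) * i = x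
  uniq : ∀ a b a' b' : ZMod 3, c a + c b * i = c a' + c b' * i → a = a' ∧ b = b'

theorem p_eq {p n : ℕ} (hp : p.Prime) (h : p ^ n = 3) : p = 3 := by
  have hn : n ≠ 0 := by
    rintro rfl
    norm_num at h
  have h1 : p ∣ 3 := by
    rw [← h]
    exact dvd_pow_self p hn
  exact (Nat.prime_dvd_prime_iff_eq hp Nat.prime_three).1 h1

theorem exists_Cx {K : Type u} [Field K] [StarRing K] {p n : ℕ} (hK : HypK K p n) (h : p ^ n = 3) :
    Nonempty (Cx K) := by
  obtain rfl := p_eq hK.pp h
  have hc := hK.char
  have hf := hK.fin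
  have hcard : Nat.card K = 9 := by
    rw [hK.card, h]
    norm_num
  have hst : ∀ x : K, star x = x ^ 3 := by
    intro x
    rw [hK.star_eq, h]
  let _ : Fintype K := Fintype.ofFinite K
  have hcard' : Fintype.card K = 9 := by rw [← Nat.card_eq_fintype_card, hcard]
  obtain ⟨i, hi⟩ : IsSquare (-1 : K) := by
    rw [FiniteField.isSquare_neg_one_iff, hcard']
    norm_num
  let c : ZMod 3 →+* K := ZMod.castHom (dvd_refl 3) K
  have hcinj : Function.Injective c := c.injective
  have hni : ∀ a : ZMod 3, c a ≠ i := by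
    intro a ha
    have h1 : c (a * a + 1) = 0 := by
      rw [map_add, map_mul, map_one, ha, ← hi]
      ring
    have h2 : a * a + 1 = 0 := hcinj (by rw [h1, map_zero])
    have h3 : ∀ a : ZMod 3, a * a + 1 ≠ 0 := by decide
    exact h3 a h2
  have huniq : ∀ a b a' b' : ZMod 3, c a + c b * i = c a' + c b' * i → a = a' ∧ b = b' := by
    intro a b a' b' he
    have hb : b = b' := by
      by_contra hne
      have h1 : c (b' - b) ≠ 0 := by
        intro h0
        exact hne (sub_eq_zero.1 (hcinj (by rw [h0, map_zero]))).symm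
      have h2 : c (b' - b) * i = c (a - a') := by
        rw [map_sub, map_sub]
        linear_combination -he
      have h3 : c ((b' - b)⁻¹ * (a - a')) = i := by
        rw [map_mul, ← h2, ← mul_assoc, ← map_mul, inv_mul_cancel₀, map_one, one_mul]
        intro h0
        exact h1 (by rw [h0, map_zero])
      exact hni _ h3
    subst hb
    exact ⟨hcinj (add_right_cancel he), rfl⟩
  have hinj : Function.Injective (fun t : ZMod 3 × ZMod 3 => c t.1 + c t.2 * i) := by
    rintro ⟨a, b⟩ ⟨a', b'⟩ he
    obtain ⟨h1, h2⟩ := huniq _ _ _ _ he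
    exact Prod.ext h1 h2
  have hbij : Function.Bijective (fun t : ZMod 3 × ZMod 3 => c t.1 + c t.2 * i) := by
    refine (Fintype.bijective_iff_injective_and_card _).2 ⟨hinj, ?_⟩
    rw [hcard']
    decide
  choose f hf' using hbij.2
  exact ⟨{
    i := i
    c := c
    re := fun x => (f x).1
    im := fun x => (f x).2
    ii := hi.symm
    si := by
      rw [hst, pow_succ, pow_two, ← hi]
      ring
    sc := by
      intro a
      rw [hst, ← map_pow]
      congr 1
      revert a
      decide
    eq := hf'
    uniq := huniq }⟩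

namespace Cx

variable {K : Type u} [Field K] [StarRing K] (C : Cx K)

theorem re_mk (a b : ZMod 3) : C.re (C.c a + C.c b * C.i) = a := (C.uniq _ _ _ _ (C.eq _)).1
theorem im_mk (a b : ZMod 3) : C.im (C.c a + C.c b * C.i) = b := (C.uniq _ _ _ _ (C.eq _)).2

theorem ext {x y : K} (h1 : C.re x = C.re y) (h2 : C.im x = C.im y) : x = y := by
  rw [← C.eq x, ← C.eq y, h1, h2]

theorem re_c (a : ZMod 3) : C.re (C.c a) = a := by
  have := C.re_mk a 0
  rwa [map_zero, zero_mul, add_zero] at this

theorem im_c (a : ZMod 3) : C.im (C.c a) = 0 := by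
  have := C.im_mk a 0
  rwa [map_zero, zero_mul, add_zero] at this

theorem re_zero : C.re 0 = 0 := by rw [← map_zero C.c, C.re_c]
theorem im_zero : C.im 0 = 0 := by rw [← map_zero C.c, C.im_c]
theorem re_one : C.re 1 = 1 := by rw [← map_one C.c, C.re_c]
theorem im_one : C.im 1 = 0 := by rw [← map_one C.c, C.im_c]

theorem re_i : C.re C.i = 0 := by
  have := C.re_mk 0 1
  rwa [map_zero, map_one, one_mul, zero_add] at this

theorem im_i : C.im C.i = 1 := by
  have := C.im_mk 0 1
  rwa [map_zero, map_one, one_mul, zero_add] at this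

theorem re_add (x y : K) : C.re (x + y) = C.re x + C.re y := by
  have : x + y = C.c (C.re x + C.re y) + C.c (C.im x + C.im y) * C.i := by
    conv_lhs => rw [← C.eq x, ← C.eq y]
    rw [map_add, map_add]
    ring
  rw [this, C.re_mk]

theorem im_add (x y : K) : C.im (x + y) = C.im x + C.im y := by
  have : x + y = C.c (C.re x + C.re y) + C.c (C.im x + C.im y) * C.i := by
    conv_lhs => rw [← C.eq x, ← C.eq y]
    rw [map_add, map_add]
    ring
  rw [this, C.im_mk]

theorem re_mul (x y : K) : C.re (x * y) = C.re x * C.re y - C.im x * C.im y := by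
  have : x * y = C.c (C.re x * C.re y - C.im x * C.im y) + C.c (C.re x * C.im y + C.im x * C.re y) * C.i := by
    conv_lhs => rw [← C.eq x, ← C.eq y]
    rw [map_sub, map_mul, map_mul, map_add, map_mul, map_mul]
    linear_combination (C.c (C.im x) * C.c (C.im y)) * C.ii
  rw [this, C.re_mk]

theorem im_mul (x y : K) : C.im (x * y) = C.re x * C.im y + C.im x * C.re y := by
  have : x * y = C.c (C.re x * C.re y - C.im x * C.im y) + C.c (C.re x * C.im y + C.im x * C.re y) * C.i := by
    conv_lhs => rw [← C.eq x, ← C.eq y]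
    rw [map_sub, map_mul, map_mul, map_add, map_mul, map_mul]
    linear_combination (C.c (C.im x) * C.c (C.im y)) * C.ii
  rw [this, C.im_mk]

theorem star_eq (x : K) : star x = C.c (C.re x) + C.c (- C.im x) * C.i := by
  conv_lhs => rw [← C.eq x]
  rw [star_add, star_mul', C.sc, C.sc, C.si, map_neg]
  ring

theorem re_star (x : K) : C.re (star x) = C.re x := by rw [C.star_eq, C.re_mk]
theorem im_star (x : K) : C.im (star x) = - C.im x := by rw [C.star_eq, C.im_mk]

theorem re_neg (x : K) : C.re (-x) = - C.re x := by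
  have h := C.re_add x (-x)
  rw [add_neg_cancel, C.re_zero] at h
  exact (neg_eq_of_add_eq_zero_right h.symm).symm

theorem im_neg (x : K) : C.im (-x) = - C.im x := by
  have h := C.im_add x (-x)
  rw [add_neg_cancel, C.im_zero] at h
  exact (neg_eq_of_add_eq_zero_right h.symm).symm

theorem re_sub (x y : K) : C.re (x - y) = C.re x - C.re y := by rw [sub_eq_add_neg, C.re_add, C.re_neg, sub_eq_add_neg]
theorem im_sub (x y : K) : C.im (x - y) = C.im x - C.im y := by rw [sub_eq_add_neg, C.im_add, C.im_neg, sub_eq_add_neg]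

/-- the elements fixed by `star` -/
theorem im_of_fix {x : K} (h : star x = x) : C.im x = 0 := by
  have h1 := C.im_star x
  rw [h] at h1
  have h2 : ∀ a : ZMod 3, a = -a → a = 0 := by decide
  exact h2 _ h1

theorem c_re_of_fix {x : K} (h : star x = x) : C.c (C.re x) = x := by
  have h1 := C.eq x
  rwa [C.im_of_fix h, map_zero, zero_mul, add_zero] at h1

include C in
/-- a ring automorphism is the identity or `star` -/
theorem aut_cases (τ : K ≃+* K) : (∀ x, τ x = x) ∨ ∀ x, τ x = star x := by
  have hc : ∀ a : ZMod 3, τ (C.c a) = C.c a := by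
    intro a
    have h1 : (τ.toRingHom.comp C.c) = C.c := Subsingleton.elim _ _
    exact congrArg (fun f : ZMod 3 →+* K => f a) h1
  have hi : τ C.i = C.i ∨ τ C.i = - C.i := by
    have h1 : τ C.i * τ C.i = C.i * C.i := by rw [← map_mul, C.ii, map_neg, map_one]
    exact mul_self_eq_mul_self_iff.1 h1
  rcases hi with hi | hi
  · left
    intro x
    conv_lhs => rw [← C.eq x]
    rw [map_add, map_mul, hc, hc, hi, C.eq]
  · right
    intro x
    conv_lhs => rw [← C.eq x]
    rw [map_add, map_mul, hc, hc, hi, C.star_eq, map_neg]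
    ring

end Cx

end Cfsg.Agent.H815.P4
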