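import Cfsg.Agent.H815.P4.Pull
import Cfsg.Agent.H815.P4.Cx
import Cfsg.Agent.H756.PU.AsmGen

/-!
# S5210, `q = 3` (3P): orders, normalizers (helper815)

* `nn_wv`, `nn_wq` : the Weyl elements do not normalize `Aut_S(V)`, `Aut_S(Q)`
* `card_inn` : `|Inn(PG K)| = 243`; `card_TP` : `|TP K| = 32`; `card_sup`
-/

set_option autoImplicit false

namespace Cfsg.Agent.H815.P4

open Cfsg Cfsg.FusionSystem Cfsg.Agent.H776.P4
open Cfsg.Agent.H756.PU (HypK Ess Inv Com NormAut TIAut AF)

universe u v

section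
variable {K : Type u} [Field K] [StarRing K]

theorem normal_PV : (PV K).Normal := by
  constructor
  intro g h1 y
  have h1' : g.r = 0 := h1
  show (y * g * y⁻¹).r = 0
  simp [h1']

theorem normal_PQ : (PQ K).Normal := by
  constructor
  intro g h1 y
  have h1' : g.c = 0 := h1
  show (y * g * y⁻¹).c = 0
  simp [h1']

theorem nn_wv {γ : MulAut (PV K)} (h : IsWV γ) : ¬ NormAut (⊤ : Subgroup (PG K)) γ := by
  intro hn
  have hQn := normal_PV (K := K)
  let x : PG K := { r := 1, a := 0, b := 0, c := 0, ha := by simp, hc := by simp }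
  let e1 : PV K := ⟨{ r := 0, a := 0, b := 0, c := 1, ha := by simp, hc := by simp }, rfl⟩
  have h1 := hn (MulAut.conjNormal x) ((H802.mem_autInducedBy_iff _ _ _).2 ⟨x, trivial, fun e => rfl⟩)
  obtain ⟨y, -, hy⟩ := (H802.mem_autInducedBy_iff _ _ _).1 h1
  have h2 := congrArg PG.c (hy (γ e1))
  rw [MulAut.mul_apply, MulAut.mul_apply, MulAut.inv_apply_self, h.c] at h2
  have h3 : ((MulAut.conjNormal x e1 : PV K) : PG K).a = 1 := by
    show (x * (e1 : PG K) * x⁻¹).a = 1
    simp [PG.mul_a, PG.inv_a, PG.inv_b, x, e1]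
  have h4 : (y * ((γ e1 : PV K) : PG K) * y⁻¹).c = 0 := by
    rw [PG.mul_c, PG.mul_c, PG.inv_c, h.c]
    show y.c + 0 + -y.c = 0
    ring
  rw [h3, h4] at h2
  exact one_ne_zero h2

theorem nn_wq {γ : MulAut (PQ K)} (h : IsWQ γ) : ¬ NormAut (⊤ : Subgroup (PG K)) γ := by
  intro hn
  have hQn := normal_PQ (K := K)
  let x : PG K := { r := 0, a := 0, b := 0, c := 1, ha := by simp, hc := by simp }
  let e1 : PQ K := ⟨{ r := 1, a := 0, b := 0, c := 0, ha := by simp, hc := by simp }, rfl⟩
  have h1 := hn (MulAut.conjNormal x) ((H802.mem_autInducedBy_iff _ _ _).2 ⟨x, trivial, fun e => rfl⟩)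
  obtain ⟨y, -, hy⟩ := (H802.mem_autInducedBy_iff _ _ _).1 h1
  have h2 := congrArg PG.r (hy (γ e1))
  rw [MulAut.mul_apply, MulAut.mul_apply, MulAut.inv_apply_self, h.r] at h2
  have h3 : ((MulAut.conjNormal x e1 : PQ K) : PG K).b = -1 := by
    show (x * (e1 : PG K) * x⁻¹).b = -1
    simp [PG.inv_b, PG.mul_b, x, e1]
  have h4 : (y * ((γ e1 : PQ K) : PG K) * y⁻¹).r = 0 := by
    rw [PG.mul_r, PG.mul_r, PG.inv_r, h.r]
    show y.r + 0 + -y.r = 0
    ring
  rw [h3, h4] at h2
  exact one_ne_zero (neg_eq_zero.1 h2)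

/-- the centre -/
theorem center_eq (h3 : (2 : K) ≠ 0) {ι : K} (hi : star ι = -ι) (hi0 : ι ≠ 0) : Subgroup.center (PG K) = PZ K := by
  ext g
  constructor
  · intro hg
    rw [Subgroup.mem_center_iff] at hg
    have h1 := congrArg PG.b (hg { r := 0, a := 0, b := 0, c := 1, ha := by simp, hc := by simp })
    have h2 := congrArg PG.b (hg { r := 1, a := 0, b := 0, c := 0, ha := by simp, hc := by simp })
    have h4 := congrArg PG.a (hg { r := 1, a := 0, b := 0, c := 0, ha := by simp, hc := by simp })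
    have h5 := congrArg PG.a (hg { r := ι, a := 0, b := 0, c := 0, ha := by simp, hc := by simp })
    simp only [PG.mul_b, zero_mul, add_zero, zero_add, mul_one, one_mul, mul_zero, add_eq_left, left_eq_add,
      star_zero, PG.mul_a, star_one, hi] at h1 h2 h4 h5
    have hr : g.r = 0 := by simpa using h1
    have hc : g.c = 0 := by simpa using h2
    rw [hc] at h4 h5
    have h6 : star g.b + g.b = 0 := by
      have : g.a + star g.b + g.b + 0 = g.a := by simpa using h4
      linear_combination this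
    have h7 : star g.b - g.b = 0 := by
      have : ι * (star g.b - g.b) = 0 := by linear_combination h5
      exact (mul_eq_zero.1 this).resolve_left hi0
    refine ⟨hr, ?_, hc⟩
    have h8 : 2 * g.b = 0 := by linear_combination h6 - h7
    exact (mul_eq_zero.1 h8).resolve_left h3
  · rintro ⟨hr, hb, hc⟩
    rw [Subgroup.mem_center_iff]
    intro x
    ext
    · simp [hr]
    · simp only [PG.mul_a, hb, hr, hc, star_zero]
      ring
    · simp only [PG.mul_b, hb, hr, hc]
      ring
    · simp [hc]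

end

theorem card_mul_relIndex {L : Type*} [Group L] {H K : Subgroup L} (h : H ≤ K) :
    Nat.card H * H.relIndex K = Nat.card K := by
  have h1 := Subgroup.card_mul_index (H.subgroupOf K)
  rw [Nat.card_congr (Subgroup.subgroupOfEquivOfLe h).toEquiv] at h1
  exact h1

/-- the product of a normal subgroup and a subgroup of coprime order -/
theorem card_sup {G : Type*} [Group G] [Finite G] (N D : Subgroup G) [hn : N.Normal]
    (h : (Nat.card N).Coprime (Nat.card D)) : Nat.card (N ⊔ D : Subgroup G) = Nat.card N * Nat.card D := by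
  have h1 : N ⊓ D = ⊥ := (Subgroup.disjoint_of_coprime_natCard h).eq_bot
  rw [← card_mul_relIndex (le_sup_left : N ≤ N ⊔ D), sup_comm, Subgroup.relIndex_sup_right,
    ← Subgroup.inf_relIndex_right, h1, Subgroup.relIndex_bot_left]

section
variable {K : Type u} [Field K] [StarRing K] {p n : ℕ}

theorem finite_PG (hK : HypK K p n) : Finite (PG K) := by
  have hf := hK.fin
  refine Finite.of_injective (fun g : PG K => (g.r, g.a, g.b, g.c)) ?_
  intro x y hxy
  simp only [Prod.mk.injEq] at hxy
  exact PG.ext hxy.1 hxy.2.1 hxy.2.2.1 hxy.2.2.2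

theorem finite_aut (hK : HypK K p n) : Finite (MulAut (PG K)) := by
  have := finite_PG hK
  exact Finite.of_injective (fun e : MulAut (PG K) => (e : PG K → PG K)) (fun a b h => MulEquiv.ext (fun x => congrFun h x))

/-- `|Z| = 3` -/
theorem card_PZ (C : Cx K) : Nat.card (PZ K) = 3 := by
  have e : PZ K ≃ ZMod 3 := {
    toFun := fun g => C.re (g : PG K).a
    invFun := fun a => ⟨{ r := 0, a := C.c a, b := 0, c := 0, ha := C.sc a, hc := by simp }, ⟨rfl, rfl, rfl⟩⟩
    left_inv := by
      rintro ⟨g, h1, h2, h3⟩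
      apply Subtype.ext
      exact PG.ext h1.symm (C.c_re_of_fix g.ha) h2.symm h3.symm
    right_inv := fun a => C.re_c a }
  rw [Nat.card_congr e, Nat.card_zmod]

/-- `|S| = 729` -/
theorem card_PG (C : Cx K) : Nat.card (PG K) = 729 := by
  have e : PG K ≃ ZMod 3 × ZMod 3 × ZMod 3 × ZMod 3 × ZMod 3 × ZMod 3 := {
    toFun := fun g => (C.re g.r, C.im g.r, C.re g.a, C.re g.b, C.im g.b, C.re g.c)
    invFun := fun t =>
      { r := C.c t.1 + C.c t.2.1 * C.i
        a := C.c t.2.2.1
        b := C.c t.2.2.2.1 + C.c t.2.2.2.2.1 * C.i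
        c := C.c t.2.2.2.2.2
        ha := C.sc _
        hc := C.sc _ }
    left_inv := by
      intro g
      exact PG.ext (C.eq _) (C.c_re_of_fix g.ha) (C.eq _) (C.c_re_of_fix g.hc)
    right_inv := by
      rintro ⟨t1, t2, t3, t4, t5, t6⟩
      simp only [C.re_mk, C.im_mk, C.re_c] }
  rw [Nat.card_congr e]
  simp only [Nat.card_prod, Nat.card_zmod]

theorem two_ne (C : Cx K) : (2 : K) ≠ 0 := by
  intro h
  have h1 : C.c 2 = C.c 0 := by rw [map_ofNat, map_zero, h]
  have h2 := C.c.injective h1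
  revert h2
  decide

theorem i_ne (C : Cx K) : C.i ≠ 0 := by
  intro h
  have := C.ii
  rw [h, mul_zero] at this
  exact one_ne_zero (neg_eq_zero.1 this.symm)

/-- `|Inn(S)| = 243` -/
theorem card_inn (hK : HypK K p n) (C : Cx K) : Nat.card (MulAut.conj : PG K →* MulAut (PG K)).range = 243 := by
  have := finite_PG hK
  have h1 : (MulAut.conj : PG K →* MulAut (PG K)).ker = PZ K := by
    rw [← center_eq (two_ne C) C.si (i_ne C)]
    ext g
    rw [MonoidHom.mem_ker, Subgroup.mem_center_iff]
    constructor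
    · intro h x
      have h2 := congrArg (fun f : MulAut (PG K) => f x) h
      simp only [MulAut.conj_apply, MulAut.one_apply] at h2
      rw [mul_inv_eq_iff_eq_mul] at h2
      exact h2.symm
    · intro h
      ext1 x
      simp only [MulAut.conj_apply, MulAut.one_apply]
      rw [mul_inv_eq_iff_eq_mul]
      exact (h x).symm
  have h2 := Subgroup.card_mul_index (MulAut.conj : PG K →* MulAut (PG K)).ker
  rw [Subgroup.index_ker, h1, card_PZ C, card_PG C] at h2
  omega

/-! ### the torus -/

theorem IsTorP.ext' {α β : MulAut (PG K)} {s l : K} {τ τ' : K ≃+* K} (h : IsTorP α s l τ) (h' : IsTorP β s l τ')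
    (hτ : ∀ x, τ x = τ' x) : α = β := by
  apply MulEquiv.ext
  intro g
  apply PG.ext
  · rw [h.r, h'.r, hτ]
  · rw [h.a, h'.a, hτ]
  · rw [h.b, h'.b, hτ]
  · rw [h.c, h'.c, hτ]

theorem l_cases (C : Cx K) {l : K} (h0 : l ≠ 0) (hl : star l = l) : l = 1 ∨ l = -1 := by
  have h1 := C.c_re_of_fix hl
  have h2 : ∀ a : ZMod 3, a = 0 ∨ a = 1 ∨ a = -1 := by decide
  rcases h2 (C.re l) with h | h | h
  · rw [h, map_zero] at h1
    exact absurd h1.symm h0
  · rw [h, map_one] at h1
    exact Or.inl h1.symm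
  · rw [h, map_neg, map_one] at h1
    exact Or.inr h1.symm

/-- the sign -/
def sg (K : Type u) [Field K] (b : Bool) : K := if b then 1 else -1

omit [StarRing K] in
theorem sg_ne (b : Bool) : sg K b ≠ 0 := by
  cases b
  · exact neg_ne_zero.2 one_ne_zero
  · exact one_ne_zero

theorem star_sg (b : Bool) : star (sg K b) = sg K b := by
  cases b
  · simp [sg]
  · simp [sg]

/-- the field automorphism -/
noncomputable def ta (K : Type u) [Field K] [StarRing K] (b : Bool) : K ≃+* K := if b then RingEquiv.refl K else starRingAut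

theorem ta_true (x : K) : ta K true x = x := rfl
theorem ta_false (x : K) : ta K false x = star x := rfl

/-- the parametrization of the torus -/
theorem exists_tor (hG : StGrp.{u}) (hK : HypK K p n) (t : Kˣ × Bool × Bool) :
    ∃ α : MulAut (PG K), IsTorP α (t.1 : K) (sg K t.2.1) (ta K t.2.2) :=
  (hG hK).2.2.1 _ _ _ t.1.ne_zero (sg_ne _) (star_sg _)

theorem card_TP (hG : StGrp.{u}) (hK : HypK K p n) (h3 : p ^ n = 3) : Nat.card (TP K) = 32 := by
  obtain ⟨C⟩ := exists_Cx hK h3
  choose f hf using exists_tor hG hK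
  have hfm : ∀ t, f t ∈ TP K := fun t => Subgroup.subset_closure ⟨_, _, _, hf t⟩
  let F : Kˣ × Bool × Bool → TP K := fun t => ⟨f t, hfm t⟩
  have hF : Function.Bijective F := by
    constructor
    · rintro ⟨s, l, t⟩ ⟨s', l', t'⟩ h
      have h1 : f (s, l, t) = f (s', l', t') := congrArg Subtype.val h
      have e1 := hf (s, l, t)
      have e2 := hf (s', l', t')
      rw [← h1] at e2
      have hs : (s : K) = s' := by
        have a1 := e1.r { r := 1, a := 0, b := 0, c := 0, ha := by simp, hc := by simp }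
        have a2 := e2.r { r := 1, a := 0, b := 0, c := 0, ha := by simp, hc := by simp }
        rw [a1] at a2
        simpa using a2
      have hl : sg K l = sg K l' := by
        have a1 := e1.c { r := 0, a := 0, b := 0, c := 1, ha := by simp, hc := by simp }
        have a2 := e2.c { r := 0, a := 0, b := 0, c := 1, ha := by simp, hc := by simp }
        rw [a1] at a2
        simpa using a2
      have ht : ta K t C.i = ta K t' C.i := by
        have a1 := e1.r { r := C.i, a := 0, b := 0, c := 0, ha := by simp, hc := by simp }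
        have a2 := e2.r { r := C.i, a := 0, b := 0, c := 0, ha := by simp, hc := by simp }
        rw [a1] at a2
        change (s : K) * ta K t C.i = (s' : K) * ta K t' C.i at a2
        rw [hs] at a2
        exact mul_left_cancel₀ s'.ne_zero a2
      have h2 := two_ne C
      have hsl : l = l' := by
        cases l <;> cases l' <;> simp only [sg, if_true, if_false, Bool.false_eq_true] at hl ⊢
        · exact absurd (by linear_combination -hl) h2
        · exact absurd (by linear_combination hl) h2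
      have hst : t = t' := by
        cases t <;> cases t' <;> simp only [ta_true, ta_false, C.si] at ht ⊢
        · exact absurd (mul_left_cancel₀ (i_ne C) (by linear_combination -ht)) h2
        · exact absurd (mul_left_cancel₀ (i_ne C) (by linear_combination ht)) h2
      rw [Units.ext hs, hsl, hst]
    · rintro ⟨α, hα⟩
      obtain ⟨s, l, τ, h⟩ := (hG hK).2.2.2.1 α hα
      obtain ⟨b, hb⟩ : ∃ b, sg K b = l := by
        rcases l_cases C h.nl h.sl with rfl | rfl
        · exact ⟨true, rfl⟩
        · exact ⟨false, rfl⟩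
      obtain ⟨b', hb'⟩ : ∃ b', ∀ x, ta K b' x = τ x := by
        rcases C.aut_cases τ with h1 | h1
        · exact ⟨true, fun x => by rw [ta_true, h1]⟩
        · exact ⟨false, fun x => by rw [ta_false, h1]⟩
      refine ⟨(Units.mk0 s h.ns, b, b'), Subtype.ext ?_⟩
      have h2 := hf (Units.mk0 s h.ns, b, b')
      subst hb
      exact IsTorP.ext' h2 h hb'
  rw [← Nat.card_congr (Equiv.ofBijective F hF), Nat.card_prod, Nat.card_prod, Nat.card_units, hK.card, h3]
  simp

/-- `|Inn · D| = 243 |D|` -/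
theorem card_innD (hK : HypK K p n) (h3 : p ^ n = 3) {D : Subgroup (MulAut (PG K))} (hD : (Nat.card D).Coprime 3) :
    Nat.card ((MulAut.conj : PG K →* MulAut (PG K)).range ⊔ D : Subgroup (MulAut (PG K))) = 243 * Nat.card D := by
  obtain ⟨C⟩ := exists_Cx hK h3
  have hfin := finite_aut hK
  have hn : (MulAut.conj : PG K →* MulAut (PG K)).range.Normal := by
    constructor
    rintro _ ⟨g, rfl⟩ α
    refine ⟨α g, ?_⟩
    apply MulEquiv.ext
    intro x
    simp [MulAut.conj_apply]
  rw [card_sup _ _ (by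
    rw [card_inn hK C]
    exact (Nat.Coprime.pow_left 5 hD.symm)), card_inn hK C]

/-- if the whole torus is realised then `Aut_F(S) = Inn(S) TP` -/
theorem AF_eq_TP (hG : StGrp.{u}) (hPos : StPos.{u}) (hC : Cfsg.Agent.H756.PU.StCompl.{u}) (hK : HypK K p n)
    (h3 : p ^ n = 3) [Fact p.Prime] {F : FusionSystem (⊤ : Subgroup (PG K))} (hF : F.IsSaturated p) (hT : TP K ≤ AF F) :
    AF F = (MulAut.conj : PG K →* MulAut (PG K)).range ⊔ TP K ∧ Nat.card (AF F) = 243 * 32 := by
  obtain rfl := p_eq hK.pp h3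
  have hfin := finite_aut hK
  have hfin' := finite_PG hK
  obtain ⟨D, hD, hDF⟩ := hC F (hG hK).2.1 hF
  obtain ⟨θ, hθ⟩ := hPos hK D hD
  have h1 : Nat.card D ≤ 32 := by
    rw [← card_TP hG hK h3]
    have h2 : D.map (MulAut.conj θ).toMonoidHom ≤ TP K := by
      rintro _ ⟨d, hd, rfl⟩
      exact hθ d hd
    calc Nat.card D = Nat.card (D.map (MulAut.conj θ).toMonoidHom) :=
          Nat.card_congr (D.equivMapOfInjective _ (MulAut.conj θ).injective).toEquiv
      _ ≤ Nat.card (TP K) := Subgroup.card_le_of_le h2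
  have hle : (MulAut.conj : PG K →* MulAut (PG K)).range ⊔ TP K ≤ AF F := by
    rw [← hDF]
    rw [← hDF] at hT
    exact sup_le le_sup_left hT
  have hcT : Nat.card ((MulAut.conj : PG K →* MulAut (PG K)).range ⊔ TP K : Subgroup (MulAut (PG K))) = 243 * 32 := by
    rw [card_innD hK h3 (by rw [card_TP hG hK h3]; decide), card_TP hG hK h3]
  have hcA : Nat.card (AF F) = 243 * Nat.card D := by
    rw [← hDF, card_innD hK h3 hD]
  have heq : (MulAut.conj : PG K →* MulAut (PG K)).range ⊔ TP K = AF F := by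
    apply Subgroup.eq_of_le_of_card_ge hle
    rw [hcA, hcT]
    exact Nat.mul_le_mul_left 243 h1
  exact ⟨heq.symm, by rw [← heq, hcT]⟩

/-- the parabolic `Q` in a saturated system -/
theorem parQ (hG : StGrp.{u}) (hTI : StTI.{u}) (hK : HypK K p n) [Fact p.Prime]
    {F : FusionSystem (⊤ : Subgroup (PG K))} (hF : F.IsSaturated p) {D : Subgroup (MulAut (PG K))} (hD : D ≤ TP K)
    (hDc : (Nat.card D).Coprime p) (hAF : AF F = (MulAut.conj : PG K →* MulAut (PG K)).range ⊔ D)
    (hnn : ¬ ∀ γ ∈ F.autGroup (PQ K), NormAut (⊤ : Subgroup (PG K)) γ) : ParP p (PQ K) (F.autGroup (PQ K)) D := by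
  have hfin := finite_PG hK
  have hS : IsPGroup p (⊤ : Subgroup (PG K)) := (hG hK).2.1
  obtain ⟨h1, h2⟩ := hTI hK
  obtain ⟨hC, -, hchar⟩ := h2 (PQ K) (Or.inr rfl)
  have hn := Cfsg.Agent.H756.PU.top_le_normalizer_of_char hchar
  have hind : autInducedBy ⊤ (PQ K) ≤ F.autGroup (PQ K) := Cfsg.Agent.H802.autInducedBy_le_autGroup F le_top
  have hsyl := Cfsg.Agent.H756.PU.syl_of_normal hS hF hn
  refine ⟨hind, hsyl, h1 _ hind hsyl, hnn, hD, hDc, ?_, ?_⟩
  · intro d hd γ hγ
    have h1 : d ∈ AF F := by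
      rw [hAF]
      exact Subgroup.mem_sup_right hd
    exact Cfsg.Agent.H756.PU.res_mem h1 hγ
  · intro γ hγ hN
    obtain ⟨β, hβ, he⟩ := Cfsg.Agent.H756.PU.ext_mem hS hF hn hγ hN
    rw [hAF] at hβ
    obtain ⟨x, d, hd, rfl⟩ := Cfsg.Agent.H756.PU.mem_range_sup hβ
    exact ⟨x, d, hd, fun e => he e⟩

end

end Cfsg.Agent.H815.P4
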